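import Mathlib
import Groth.Agent.H70.FinInjDesc.Main
import Groth.Agent.S6270
import Groth.Agent.S6272
import Groth.Agent.S0585

/-!
# Descent of projectivity along finite injective ring maps (no Noetherian hypothesis)

Mirror of helper70's `H70.FinInjDesc` (descent of flatness, Raynaud–Gruson dévissage) for
projectivity, using S6270 (flat + projective mod nilpotent ⇒ projective), S6272 (projective mod
two ideals meeting in zero ⇒ projective) and S0585 (faithfully flat descent of projectivity).
-/

set_option autoImplicit false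
set_option linter.style.haveILetI false
universe u
open scoped TensorProduct
open Function (Injective Surjective Exact)

namespace Groth.Agent.H78.ProjFinInj

open Groth.Agent.H70.FinInjDesc

section basic

variable {A : Type u} [CommRing A] {M : Type u} [AddCommGroup M] [Module A M]

/-- If `B₂ ⊗ M` is projective over `B₂` and `B₂ → B₁` is a map of `A`-algebras, then `B₁ ⊗ M` is
projective over `B₁`. -/
theorem projective_baseChange_of_algHom {B₂ B₁ : Type u} [CommRing B₂] [CommRing B₁] [Algebra A B₂]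
    [Algebra A B₁] (ψ : B₂ →ₐ[A] B₁) [Module.Projective B₂ (B₂ ⊗[A] M)] :
    Module.Projective B₁ (B₁ ⊗[A] M) := by
  letI : Algebra B₂ B₁ := ψ.toRingHom.toAlgebra
  haveI : IsScalarTower A B₂ B₁ := IsScalarTower.of_algebraMap_eq (fun a => (ψ.commutes a).symm)
  haveI : Module.Projective B₁ (B₁ ⊗[B₂] (B₂ ⊗[A] M)) := inferInstance
  exact Module.Projective.of_equiv
    (TensorProduct.AlgebraTensorModule.cancelBaseChange A B₂ B₁ B₁ M)

/-- Dévissage, relative form: projectivity modulo `I` and modulo `J` gives projectivity modulo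
`I ⊓ J`. -/
theorem projective_quot_inf (I J : Ideal A) [Module.Projective (A ⧸ I) ((A ⧸ I) ⊗[A] M)]
    [Module.Projective (A ⧸ J) ((A ⧸ J) ⊗[A] M)] :
    Module.Projective (A ⧸ (I ⊓ J)) ((A ⧸ (I ⊓ J)) ⊗[A] M) := by
  have key : ∀ (I' : Ideal A), I ⊓ J ≤ I' → Module.Projective (A ⧸ I') ((A ⧸ I') ⊗[A] M) →
      Module.Projective ((A ⧸ (I ⊓ J)) ⧸ I'.map (Ideal.Quotient.mk (I ⊓ J)))
        (((A ⧸ (I ⊓ J)) ⧸ I'.map (Ideal.Quotient.mk (I ⊓ J))) ⊗[A ⧸ (I ⊓ J)]
          ((A ⧸ (I ⊓ J)) ⊗[A] M)) := by
    intro I' hle _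
    let ψ : (A ⧸ I') →ₐ[A] ((A ⧸ (I ⊓ J)) ⧸ I'.map (Ideal.Quotient.mk (I ⊓ J))) :=
      Ideal.Quotient.liftₐ I'
        (Algebra.ofId A ((A ⧸ (I ⊓ J)) ⧸ I'.map (Ideal.Quotient.mk (I ⊓ J)))) (by
          intro a ha
          change Ideal.Quotient.mk _ (Ideal.Quotient.mk (I ⊓ J) a) = 0
          rw [Ideal.Quotient.eq_zero_iff_mem]
          exact Ideal.mem_map_of_mem _ ha)
    haveI : Module.Projective ((A ⧸ (I ⊓ J)) ⧸ I'.map (Ideal.Quotient.mk (I ⊓ J)))
        (((A ⧸ (I ⊓ J)) ⧸ I'.map (Ideal.Quotient.mk (I ⊓ J))) ⊗[A] M) :=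
      projective_baseChange_of_algHom ψ
    exact Module.Projective.of_equiv (TensorProduct.AlgebraTensorModule.cancelBaseChange A
      (A ⧸ (I ⊓ J)) ((A ⧸ (I ⊓ J)) ⧸ I'.map (Ideal.Quotient.mk (I ⊓ J)))
      ((A ⧸ (I ⊓ J)) ⧸ I'.map (Ideal.Quotient.mk (I ⊓ J))) M).symm
  have h1 := key I inf_le_left inferInstance
  have h2 := key J inf_le_right inferInstance
  refine Groth.Agent.S6272.result (I.map (Ideal.Quotient.mk (I ⊓ J)))
    (J.map (Ideal.Quotient.mk (I ⊓ J))) ?_ _ h1 h2
  rw [eq_bot_iff]
  rintro x ⟨hxI, hxJ⟩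
  obtain ⟨a, rfl⟩ := Ideal.Quotient.mk_surjective x
  have hxI' : a ∈ I := (Ideal.mem_quotient_iff_mem inf_le_left).mp hxI
  have hxJ' : a ∈ J := (Ideal.mem_quotient_iff_mem inf_le_right).mp hxJ
  rw [Submodule.mem_bot, Ideal.Quotient.eq_zero_iff_mem]
  exact ⟨hxI', hxJ'⟩

/-- Dévissage for a finite intersection. -/
theorem projective_quot_finset_inf {ι : Type*} (s : Finset ι) (𝔞 : ι → Ideal A)
    (h : ∀ j ∈ s, Module.Projective (A ⧸ 𝔞 j) ((A ⧸ 𝔞 j) ⊗[A] M)) :
    ∀ K : Ideal A, K = s.inf 𝔞 → Module.Projective (A ⧸ K) ((A ⧸ K) ⊗[A] M) := by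
  classical
  induction s using Finset.induction_on with
  | empty =>
    intro K hK
    rw [Finset.inf_empty] at hK
    subst hK
    haveI : Subsingleton (A ⧸ (⊤ : Ideal A)) := Ideal.Quotient.subsingleton_iff.mpr rfl
    haveI : Subsingleton ((A ⧸ (⊤ : Ideal A)) ⊗[A] M) := Module.subsingleton (A ⧸ (⊤ : Ideal A)) _
    infer_instance
  | insert j s hj ih =>
    intro K hK
    rw [Finset.inf_insert] at hK
    subst hK
    haveI := h j (Finset.mem_insert_self j s)
    haveI := ih (fun k hk => h k (Finset.mem_insert_of_mem hk)) _ rfl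
    exact projective_quot_inf _ _

end basic

section oneGen

variable {A B : Type u} [CommRing A] [CommRing B] [Algebra A B]

/-- Descent of projectivity along an injective extension `A ⊆ B = A[t]` with `∏ (t - α j) = 0`. -/
theorem projective_of_oneGen (hinj : Injective (algebraMap A B)) (t : B)
    (hgen : Algebra.adjoin A {t} = ⊤) {d : ℕ} (α : Fin d → A)
    (hprod : ∏ j, (t - algebraMap A B (α j)) = 0)
    (M : Type u) [AddCommGroup M] [Module A M] [Module.Projective B (B ⊗[A] M)] :
    Module.Projective A M := by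
  haveI : Module.Flat A M := flat_of_oneGen hinj t hgen α hprod M
  let 𝔮 : Fin d → Ideal B := fun j => Ideal.span {t - algebraMap A B (α j)}
  let 𝔞 : Fin d → Ideal A := fun j => RingHom.ker (Algebra.ofId A (B ⧸ 𝔮 j))
  have hP : ∀ j ∈ (Finset.univ : Finset (Fin d)),
      Module.Projective (A ⧸ 𝔞 j) ((A ⧸ 𝔞 j) ⊗[A] M) := by
    intro j _
    haveI : Module.Projective (B ⧸ 𝔮 j) ((B ⧸ 𝔮 j) ⊗[A] M) :=
      projective_baseChange_of_algHom (Ideal.Quotient.mkₐ A (𝔮 j))
    have hs : Surjective (Algebra.ofId A (B ⧸ 𝔮 j)) :=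
      surjective_algebraMap_quotient_of_adjoin t hgen (α j)
    let e : (A ⧸ 𝔞 j) ≃ₐ[A] (B ⧸ 𝔮 j) := Ideal.quotientKerAlgEquivOfSurjective hs
    exact projective_baseChange_of_algHom e.symm.toAlgHom
  let N' : Ideal A := Finset.univ.inf 𝔞
  have hN'proj : Module.Projective (A ⧸ N') ((A ⧸ N') ⊗[A] M) :=
    projective_quot_finset_inf Finset.univ 𝔞 hP N' rfl
  have hmap : ∀ j, N'.map (algebraMap A B) ≤ 𝔮 j := by
    intro j
    rw [Ideal.map_le_iff_le_comap]
    intro x hx
    have hx' : x ∈ 𝔞 j := (Finset.inf_le (Finset.mem_univ j) : N' ≤ 𝔞 j) hx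
    rw [Ideal.mem_comap]
    have h0 : Ideal.Quotient.mk (𝔮 j) (algebraMap A B x) = 0 := hx'
    rw [Ideal.Quotient.eq_zero_iff_mem] at h0
    exact h0
  have hnil : N' ^ d = ⊥ := by
    rw [eq_bot_iff]
    intro x hx
    rw [Submodule.mem_bot]
    apply hinj
    rw [map_zero]
    have h1 : algebraMap A B x ∈ (N'.map (algebraMap A B)) ^ d := by
      rw [← Ideal.map_pow]
      exact Ideal.mem_map_of_mem _ hx
    have h2 : (N'.map (algebraMap A B)) ^ d ≤ ∏ j, 𝔮 j := by
      have := pow_card_le_prod (Finset.univ : Finset (Fin d)) (N'.map (algebraMap A B)) 𝔮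
        (fun j _ => hmap j)
      rwa [Finset.card_univ, Fintype.card_fin] at this
    have h3 : ∏ j, 𝔮 j = ⊥ := by
      rw [Ideal.prod_span_singleton, hprod]
      exact Ideal.span_singleton_eq_bot.mpr rfl
    have h4 := h2 h1
    rw [h3] at h4
    exact h4
  exact Groth.Agent.S6270.result N' ⟨d, hnil⟩ M hN'proj

end oneGen

/-- Projectivity descends along `A → B`. -/
def DescendsP (A B : Type u) [CommRing A] [CommRing B] [Algebra A B] : Prop :=
  ∀ (M : Type u) [AddCommGroup M] [Module A M],
    Module.Projective B (B ⊗[A] M) → Module.Projective A M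

theorem DescendsP.trans {A B C : Type u} [CommRing A] [CommRing B] [CommRing C] [Algebra A B]
    [Algebra B C] [Algebra A C] [IsScalarTower A B C] (h1 : DescendsP A B) (h2 : DescendsP B C) :
    DescendsP A C := by
  intro M _ _ hC
  apply h1 M
  apply h2 (B ⊗[A] M)
  exact Module.Projective.of_equiv
    (TensorProduct.AlgebraTensorModule.cancelBaseChange A B C C M).symm

theorem DescendsP.of_bijective {A B : Type u} [CommRing A] [CommRing B] [Algebra A B]
    (h : Function.Bijective (algebraMap A B)) : DescendsP A B := by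
  intro M _ _ hB
  let e : A ≃ₐ[A] B := AlgEquiv.ofBijective (Algebra.ofId A B) h
  haveI : Module.Projective A (A ⊗[A] M) := projective_baseChange_of_algHom e.symm.toAlgHom
  exact Module.Projective.of_equiv (TensorProduct.lid A M)

theorem DescendsP.of_oneGen {A B : Type u} [CommRing A] [CommRing B] [Algebra A B]
    (hinj : Injective (algebraMap A B)) (t : B)
    (hgen : Algebra.adjoin A {t} = ⊤) {d : ℕ} (α : Fin d → A)
    (hprod : ∏ j, (t - algebraMap A B (α j)) = 0) : DescendsP A B := by
  intro M _ _ hB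
  exact projective_of_oneGen hinj t hgen α hprod M

theorem descendsP_of_adjoin_fin : ∀ (n : ℕ) (A B : Type u) [CommRing A] [CommRing B] [Algebra A B],
    Injective (algebraMap A B) → ∀ (t : Fin n → B), Algebra.adjoin A (Set.range t) = ⊤ →
    ∀ (d : Fin n → ℕ) (α : (i : Fin n) → Fin (d i) → A),
    (∀ i, ∏ j, (t i - algebraMap A B (α i j)) = 0) → DescendsP A B := by
  intro n
  induction n with
  | zero =>
    intro A B _ _ _ hinj t hgen d α hprod
    apply DescendsP.of_bijective
    refine ⟨hinj, ?_⟩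
    rw [Algebra.surjective_algebraMap_iff, ← hgen]
    have : Set.range t = ∅ := Set.range_eq_empty t
    rw [this, Algebra.adjoin_empty]
  | succ n ih =>
    intro A B _ _ _ hinj t hgen d α hprod
    let B₀ : Subalgebra A B := Algebra.adjoin A (Set.range (t ∘ Fin.castSucc))
    -- first step
    have hinj₀ : Injective (algebraMap A B₀) := by
      intro x y hxy
      apply hinj
      exact congrArg Subtype.val hxy
    let t₀ : Fin n → B₀ := fun i => ⟨t (Fin.castSucc i), Algebra.subset_adjoin ⟨i, rfl⟩⟩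
    have hgen₀ : Algebra.adjoin A (Set.range t₀) = ⊤ := by
      have h := Algebra.adjoin_adjoin_coe_preimage (R := A) (s := Set.range (t ∘ Fin.castSucc))
      have hset : Set.range t₀ = ((↑) : B₀ → B) ⁻¹' (Set.range (t ∘ Fin.castSucc)) := by
        ext x
        constructor
        · rintro ⟨i, rfl⟩
          exact ⟨i, rfl⟩
        · rintro ⟨i, hi⟩
          exact ⟨i, Subtype.ext hi⟩
      rw [hset]
      exact h
    have hprod₀ : ∀ i, ∏ j, (t₀ i - algebraMap A B₀ (α (Fin.castSucc i) j)) = 0 := by
      intro i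
      apply Subtype.ext
      have h := hprod (Fin.castSucc i)
      have h2 : B₀.val (∏ j, (t₀ i - algebraMap A B₀ (α (Fin.castSucc i) j))) =
          ∏ j, (t (Fin.castSucc i) - algebraMap A B (α (Fin.castSucc i) j)) := by
        rw [map_prod]
        rfl
      exact h2.trans h
    have h1 : DescendsP A B₀ :=
      ih A B₀ hinj₀ t₀ hgen₀ (fun i => d (Fin.castSucc i)) (fun i => α (Fin.castSucc i)) hprod₀
    -- second step
    have hinj₁ : Injective (algebraMap B₀ B) := Subtype.val_injective
    have hgen₁ : Algebra.adjoin B₀ {t (Fin.last n)} = ⊤ := by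
      rw [eq_top_iff]
      intro b _
      have hb : b ∈ Algebra.adjoin A (Set.range t) := by rw [hgen]; trivial
      induction hb using Algebra.adjoin_induction with
      | mem y hy =>
        obtain ⟨i, rfl⟩ := hy
        induction i using Fin.lastCases with
        | last => exact Algebra.subset_adjoin rfl
        | cast i =>
          have : t (Fin.castSucc i) = algebraMap B₀ B (t₀ i) := rfl
          rw [this]
          exact Subalgebra.algebraMap_mem _ _
      | algebraMap r =>
        have : algebraMap A B r = algebraMap B₀ B (algebraMap A B₀ r) := rfl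
        rw [this]
        exact Subalgebra.algebraMap_mem _ _
      | add y z _ _ hy hz => exact Subalgebra.add_mem _ (hy trivial) (hz trivial)
      | mul y z _ _ hy hz => exact Subalgebra.mul_mem _ (hy trivial) (hz trivial)
    have hprod₁ : ∏ j, (t (Fin.last n) - algebraMap B₀ B (algebraMap A B₀ (α (Fin.last n) j))) = 0 :=
      hprod (Fin.last n)
    have h2 : DescendsP B₀ B :=
      DescendsP.of_oneGen hinj₁ (t (Fin.last n)) hgen₁
        (fun j => algebraMap A B₀ (α (Fin.last n) j)) hprod₁
    exact DescendsP.trans h1 h2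

/-- **Descent of projectivity along finite injective ring maps** (no Noetherian hypothesis):
if `R → S` is finite and injective and `S ⊗_R M` is projective over `S`, then `M` is projective
over `R`. -/
theorem projective_of_finite_injective (R S : Type u) [CommRing R] [CommRing S] [Algebra R S]
    [Module.Finite R S] (hinj : Injective (algebraMap R S))
    (M : Type u) [AddCommGroup M] [Module R M] [Module.Projective S (S ⊗[R] M)] :
    Module.Projective R M := by
  obtain ⟨R', _, _, hfin, hfree, hinj', n, d, α, φ, hφ, hrel⟩ := Groth.Agent.S6886.result R S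
  haveI : Module.Free R R' := hfree
  have hinjS' : Injective (algebraMap R' (R' ⊗[R] S)) :=
    Algebra.TensorProduct.includeLeft_injective (S := R') (A := R') (B := S) hinj
  have hgen : Algebra.adjoin R' (Set.range fun i => φ (MvPolynomial.X i)) = ⊤ := by
    have h1 : (Set.range fun i => φ (MvPolynomial.X i)) =
        φ '' (Set.range (MvPolynomial.X : Fin n → MvPolynomial (Fin n) R')) := by
      rw [← Set.range_comp]
      rfl
    rw [h1, Algebra.adjoin_image, MvPolynomial.adjoin_range_X, Algebra.map_top,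
      AlgHom.range_eq_top]
    exact hφ
  have hprod : ∀ i, ∏ j, (φ (MvPolynomial.X i) - algebraMap R' (R' ⊗[R] S) (α i j)) = 0 := by
    intro i
    rw [← hrel i, map_prod]
    refine Finset.prod_congr rfl fun j _ => ?_
    rw [map_sub, ← MvPolynomial.algebraMap_eq, AlgHom.commutes]
  have hD : DescendsP R' (R' ⊗[R] S) :=
    descendsP_of_adjoin_fin n R' (R' ⊗[R] S) hinjS' (fun i => φ (MvPolynomial.X i)) hgen d α hprod
  haveI : Module.Projective (R' ⊗[R] S) ((R' ⊗[R] S) ⊗[R] M) :=
    projective_baseChange_of_algHom (A := R)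
      (Algebra.TensorProduct.includeRight : S →ₐ[R] R' ⊗[R] S)
  haveI : Module.Projective (R' ⊗[R] S) ((R' ⊗[R] S) ⊗[R'] (R' ⊗[R] M)) :=
    Module.Projective.of_equiv (TensorProduct.AlgebraTensorModule.cancelBaseChange R R'
      (R' ⊗[R] S) (R' ⊗[R] S) M).symm
  haveI : Module.Projective R' (R' ⊗[R] M) := hD (R' ⊗[R] M) inferInstance
  rcases subsingleton_or_nontrivial R with hR | hR
  · haveI : Subsingleton M := Module.subsingleton R M
    infer_instance
  · haveI : Nontrivial R' := hinj'.nontrivial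
    haveI : Module.FaithfullyFlat R R' := inferInstance
    exact Groth.Agent.S0585.result R R' M

end Groth.Agent.H78.ProjFinInj
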